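import Cfsg.Agent.Lib.EigenProj
import Cfsg.Agent.Lib.Chars.RegularOrbit
import Cfsg.Agent.Lib.ThreeDegrees.Basic

/-!
# Two criteria for an element to be vanishing
-/

set_option autoImplicit false

namespace Cfsg.Agent.Lib.VanishingP

open Cfsg.Agent.Lib

universe u

variable {G : Type u} [Group G]

/-- Some irreducible character is zero at `g`. -/
def Van (g : G) : Prop := ∃ χ : IrrCharacter G, (χ : G → ℂ) g = 0

theorem van_of_map {H : Type u} [Group H] [Finite G] {f : G →* H} (hf : Function.Surjective f)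
    {g : G} (h : Van (f g)) : Van g := by
  have := Finite.of_surjective f hf
  obtain ⟨χ, hχ⟩ := h
  exact ⟨⟨_, Chars.isIrrCharacter_comp_surjective f hf χ.2⟩, hχ⟩

/-- An element moving every conjugate of a character of an abelian normal subgroup is vanishing. -/
theorem van_of_moves [Finite G] (N : Subgroup G) [N.Normal] [IsMulCommutative N]
    (μ : IrrCharacter N) (w : G)
    (h : ∀ g : G, Clifford.conjFun w (Clifford.conjFun g (μ : N → ℂ)) ≠
      Clifford.conjFun g (μ : N → ℂ)) : Van w := by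
  cases nonempty_fintype G
  cases nonempty_fintype N
  obtain ⟨χ, hχ⟩ := ThreeDegrees.exists_over N μ
  obtain ⟨n, ρ, hρ, hρχ⟩ := χ.2
  refine ⟨χ, ?_⟩
  have h1 := EigenProj.char_mul (P := N) ρ w 1
  rw [OneMemClass.coe_one, mul_one, hρχ] at h1
  rw [h1]
  refine Finset.sum_eq_zero fun l _ => ?_
  by_cases hl : classInner (fun x : N => ρ.character x) (l : N → ℂ) = 0
  · rw [EigenProj.proj_eq_zero ρ hl, mul_zero, map_zero, mul_zero]
  · obtain ⟨g, hg⟩ := Clifford.exists_conjFun_eq_of_constituent χ.2 μ.2 l.2 hχ (by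
      rw [← hρχ]; exact hl)
    rw [EigenProj.trace_mul_proj_eq_zero ρ w
      (l' := ⟨_, Clifford.isIrrCharacter_conjFun w⁻¹ l.2⟩) rfl, mul_zero]
    intro e
    have e' : (l : N → ℂ) = Clifford.conjFun w⁻¹ (l : N → ℂ) := congrArg Subtype.val e
    refine h g ?_
    rw [hg]
    conv_lhs => rw [e', ← Clifford.conjFun_mul, inv_mul_cancel, Clifford.conjFun_one]

/-- An element conjugate to all of its translates by a normal subgroup of prime order is
vanishing. -/
theorem van_of_commutator [Finite G] {y q z : G} (hn : (Subgroup.zpowers z).Normal) (hz : z ≠ 1)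
    (hqz : q * z = z * q) (hy : q * y * q⁻¹ = y * z) : Van y := by
  cases nonempty_fintype G
  have : Fintype (Subgroup.zpowers z) := Fintype.ofFinite _
  obtain ⟨χ, hχ⟩ : ∃ χ : IrrCharacter G, (χ : G → ℂ) z ≠ (χ : G → ℂ) 1 := by
    by_contra! h0
    exact hz (ThreeDegrees.eq_one_of_forall_irr h0)
  obtain ⟨n, ρ, hρ, hρχ⟩ := χ.2
  refine ⟨χ, ?_⟩
  let T : Module.End ℂ (Fin n → ℂ) := ∑ x : Subgroup.zpowers z, ρ (x : G)
  have hcomm : ∀ g : G, T ∘ₗ ρ g = ρ g ∘ₗ T := by
    intro g
    change T * ρ g = ρ g * T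
    simp only [T, Finset.sum_mul, Finset.mul_sum, ← map_mul]
    refine Fintype.sum_equiv
      (MulAut.conjNormal g⁻¹ : MulAut (Subgroup.zpowers z)).toEquiv _ _ fun x => ?_
    simp only [MulEquiv.toEquiv_eq_coe, MulEquiv.coe_toEquiv, MulAut.conjNormal_apply]
    congr 1
    group
  obtain ⟨c, hc⟩ := Chars.exists_scalar_of_commute ρ T hcomm
  have hzT : ρ z * T = T := by
    simp only [T, Finset.mul_sum, ← map_mul]
    exact Fintype.sum_equiv (Equiv.mulLeft ⟨z, Subgroup.mem_zpowers z⟩) _ _ fun x => rfl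
  have hT : T = 0 := by
    rcases eq_or_ne c 0 with h0 | h0
    · rw [hc, h0, zero_smul]
    · exfalso
      rw [hc, mul_smul_comm, mul_one] at hzT
      refine hχ ?_
      rw [← hρχ]
      show LinearMap.trace ℂ _ (ρ z) = LinearMap.trace ℂ _ (ρ 1)
      rw [map_one, smul_right_injective (Module.End ℂ (Fin n → ℂ)) h0 hzT]
  have hval : ∀ x : Subgroup.zpowers z, (χ : G → ℂ) (y * x) = (χ : G → ℂ) y := by
    rintro ⟨x, hx⟩
    obtain ⟨k, rfl⟩ := mem_powers_iff_mem_zpowers.mpr hx
    have hk : ∀ m : ℕ, q ^ m * y * (q ^ m)⁻¹ = y * z ^ m := by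
      intro m
      induction m with
      | zero => simp
      | succ m ih =>
        rw [pow_succ' q, mul_inv_rev,
          show q * q ^ m * y * ((q ^ m)⁻¹ * q⁻¹) = q * (q ^ m * y * (q ^ m)⁻¹) * q⁻¹ by group,
          ih, show q * (y * z ^ m) * q⁻¹ = (q * y * q⁻¹) * (q * z ^ m * q⁻¹) by group, hy,
          ((show Commute q z from hqz).pow_right m).eq, mul_inv_cancel_right, pow_succ',
          mul_assoc]
    show (χ : G → ℂ) (y * z ^ k) = _
    rw [← hk k]
    exact Chars.irr_isClassFunction χ y (q ^ k)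
  have hsum : (Fintype.card (Subgroup.zpowers z) : ℂ) * (χ : G → ℂ) y = 0 := by
    rw [← nsmul_eq_mul, ← Finset.card_univ, ← Finset.sum_const,
      ← Finset.sum_congr rfl (fun x _ => hval x), ← hρχ]
    show ∑ x : Subgroup.zpowers z, LinearMap.trace ℂ _ (ρ (y * x)) = 0
    simp only [map_mul, ← map_sum, ← Finset.mul_sum]
    change LinearMap.trace ℂ _ (ρ y * T) = 0
    rw [hT, mul_zero, map_zero]
  exact (mul_eq_zero.mp hsum).resolve_left (Nat.cast_ne_zero.mpr Fintype.card_ne_zero)

/-- Two commuting fixed-point-free automorphisms of order `p` with all `a * b ^ i` fixed-point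
free force exponent `p`. -/
theorem pow_eq_one_of_fpf_pair {D : Type*} [CommGroup D] {p : ℕ} (hp : p.Prime) (a b : MulAut D)
    (hab : Commute a b) (ha : a ^ p = 1) (hb : b ^ p = 1) (hfb : ∀ d, b d = d → d = 1)
    (hfab : ∀ i : ℕ, ∀ d, (a * b ^ i) d = d → d = 1) (d : D) : d ^ p = 1 := by
  have hnorm : ∀ (c : MulAut D), c ^ p = 1 → (∀ d, c d = d → d = 1) →
      ∀ d : D, ∏ j ∈ Finset.range p, (c ^ j) d = 1 := by
    intro c hc hf d
    apply hf
    have h1 : c (∏ j ∈ Finset.range p, (c ^ j) d) = ∏ j ∈ Finset.range p, (c ^ (j + 1)) d := by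
      rw [map_prod]
      exact Finset.prod_congr rfl fun i _ => by rw [pow_succ', MulAut.mul_apply]
    rw [h1]
    have h2 := Finset.prod_range_succ' (fun i => (c ^ i) d) p
    rw [Finset.prod_range_succ, hc, pow_zero] at h2
    exact (mul_right_cancel h2).symm
  have hgrp : ∀ i : ℕ, (a * b ^ i) ^ p = 1 := fun i => by
    rw [(hab.pow_right i).mul_pow, ha, ← pow_mul, mul_comm i, pow_mul, hb, one_pow, one_mul]
  have h := Finset.prod_eq_one (s := Finset.range p)
    (fun i _ => hnorm _ (hgrp i) (hfab i) d)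
  rw [Finset.prod_comm] at h
  rw [Finset.prod_eq_single_of_mem 0 (Finset.mem_range.mpr hp.pos)] at h
  · simpa using h
  intro j hj hj0
  have hj' := Finset.mem_range.mp hj
  have hcop : j.Coprime p :=
    (hp.coprime_iff_not_dvd.mpr fun hd => hj0 (Nat.eq_zero_of_dvd_of_lt hd hj')).symm
  obtain ⟨k, hk⟩ := Nat.exists_mul_mod_eq_one_of_coprime hcop hp.one_lt
  have hbj : ∀ d, (b ^ j) d = d → d = 1 := fun d hd => hfb d (by
    have hfix : ∀ m : ℕ, ((b ^ j) ^ m) d = d := by
      intro m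
      induction m with
      | zero => rfl
      | succ m ih => rw [pow_succ, MulAut.mul_apply, hd, ih]
    have := hfix k
    rwa [← pow_mul, ← Nat.mod_add_div (j * k) p, hk.2, pow_add, pow_mul, hb, one_pow, mul_one,
      pow_one] at this)
  have hpow : (b ^ j) ^ p = 1 := by rw [← pow_mul, mul_comm, pow_mul, hb, one_pow]
  calc ∏ i ∈ Finset.range p, ((a * b ^ i) ^ j) d
      = ∏ i ∈ Finset.range p, (a ^ j) (((b ^ j) ^ i) d) := by
        refine Finset.prod_congr rfl fun i _ => ?_
        rw [(hab.pow_right i).mul_pow, MulAut.mul_apply, ← pow_mul, mul_comm i, pow_mul]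
    _ = 1 := by rw [← map_prod, hnorm _ hpow hbj, map_one]

end Cfsg.Agent.Lib.VanishingP
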