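import Cfsg.Agent.Lib.VanishingP.Criterion
import Cfsg.Agent.Lib.PSolvable.Core
import Cfsg.Agent.Lib.MinimalNormal
import Cfsg.Agent.Lib.Transitivity.Constrained

/-!
# Solvable groups whose vanishing `p`-singular elements have one order
-/

set_option autoImplicit false

namespace Cfsg.Agent.Lib.VanishingP

open Cfsg.Agent.Lib Subgroup

universe u

variable {G H : Type u} [Group G] [Group H] {p : ℕ} [hp : Fact p.Prime]

/-- All vanishing elements of order divisible by `p` have the same order. -/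
def OneVanOrder (p : ℕ) (G : Type u) [Group G] : Prop :=
  ∀ g g' : G, Van g → Van g' → p ∣ orderOf g → p ∣ orderOf g' → orderOf g = orderOf g'

theorem dvd_orderOf_of_ne_one {x : G} {k : ℕ} (hx : x ^ p ^ k = 1) (h1 : x ≠ 1) :
    p ∣ orderOf x := by
  obtain ⟨i, _, hi⟩ := (Nat.dvd_prime_pow hp.out).mp (orderOf_dvd_of_pow_eq_one hx)
  rcases i with _ | i
  · exact absurd (orderOf_eq_one_iff.mp (by simpa using hi)) h1
  · exact hi ▸ dvd_pow_self p i.succ_ne_zero

theorem exists_pLift [Finite G] (f : G →* H) (hf : Function.Surjective f) {h : H} {k : ℕ}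
    (hk : h ^ p ^ k = 1) : ∃ (g : G) (j : ℕ), f g = h ∧ g ^ p ^ j = 1 := by
  obtain ⟨c, rfl⟩ := hf h
  obtain ⟨s, hs, he⟩ := Transitivity.exists_pElement_preimage f c hk
  obtain ⟨j, hj⟩ := hs ⟨c ^ s, mem_zpowers _⟩
  exact ⟨c ^ s, j, he, congrArg Subtype.val hj⟩

theorem isPow_of_van [Finite G] {f : G →* H} (hf : Function.Surjective f) (hyp : OneVanOrder p G)
    {h h' : H} {k : ℕ} (hv : Van h) (hk : h ^ p ^ k = 1) (h1 : h ≠ 1) (hv' : Van h')
    (hd : p ∣ orderOf h') : ∃ j : ℕ, h' ^ p ^ j = 1 := by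
  obtain ⟨g, j, rfl, hj⟩ := exists_pLift f hf hk
  obtain ⟨g', rfl⟩ := hf h'
  have e := hyp g g' (van_of_map hf hv) (van_of_map hf hv')
    (dvd_orderOf_of_ne_one hj fun e => h1 (by rw [e, map_one]))
    (hd.trans (orderOf_map_dvd f g'))
  refine ⟨j, ?_⟩
  rw [← map_pow, orderOf_dvd_iff_pow_eq_one.mp (e ▸ orderOf_dvd_of_pow_eq_one hj), map_one]

theorem not_van_pow [Finite G] {f : G →* H} (hf : Function.Surjective f) (hyp : OneVanOrder p G)
    {h : H} {k : ℕ} (hv : Van h) (hk : h ^ p ^ k = 1) (h1 : h ^ p ≠ 1) (hvp : Van (h ^ p)) :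
    False := by
  obtain ⟨g, j, rfl, hj⟩ := exists_pLift f hf hk
  have hg1 : g ^ p ≠ 1 := fun e => h1 (by rw [← map_pow, e, map_one])
  have hdg : p ∣ orderOf g := dvd_orderOf_of_ne_one hj fun e => hg1 (by rw [e, one_pow])
  have e := hyp g (g ^ p) (van_of_map hf hv) (van_of_map hf (by rwa [map_pow])) hdg
    (dvd_orderOf_of_ne_one (k := j) (by rw [← pow_mul, mul_comm, pow_mul, hj, one_pow]) hg1)
  rw [orderOf_pow' g hp.out.ne_zero, Nat.gcd_eq_right hdg] at e
  exact (Nat.div_lt_self (orderOf_pos g) hp.out.one_lt).ne' e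

theorem eq_one_of_pow_prime_pow [Finite H] {N : Subgroup H} (hN : (Nat.card N).Coprime p) {n : H}
    (hn : n ∈ N) {j : ℕ} (hj : n ^ p ^ j = 1) : n = 1 := by
  have h1 : orderOf n ∣ p ^ j := orderOf_dvd_of_pow_eq_one hj
  have h2 : orderOf n ∣ Nat.card N := by
    rw [← Subgroup.orderOf_mk n hn]; exact orderOf_dvd_natCard _
  exact orderOf_eq_one_iff.mp (Nat.eq_one_of_dvd_coprimes (hN.pow_right j) h2 h1)

variable (N : Subgroup H) [N.Normal]

/-- Nontrivial of order dividing `p` in the quotient with all preimages vanishing. -/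
def Good (p : ℕ) (y : H ⧸ N) : Prop :=
  y ≠ 1 ∧ y ^ p = 1 ∧ ∀ h : H, (h : H ⧸ N) = y → Van h

theorem fpf_of_good [Finite G] [Finite H] {f : G →* H} (hf : Function.Surjective f)
    (hyp : OneVanOrder p G) (hN : (Nat.card N).Coprime p) {h : H}
    (hg : Good N p (h : H ⧸ N)) {n : H} (hn : n ∈ N) (hc : h * n = n * h) : n = 1 := by
  obtain ⟨hy1, hyp', hv⟩ := hg
  obtain ⟨h0, j, he, hj⟩ := exists_pLift (p := p) (QuotientGroup.mk' N)
    (QuotientGroup.mk'_surjective N) (h := (h : H ⧸ N)) (k := 1) (by rwa [pow_one])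
  have hord : ∀ h' : H, (h' : H ⧸ N) = h → ∃ i : ℕ, h' ^ p ^ i = 1 := fun h' h'' =>
    isPow_of_van hf hyp (hv h0 he) hj (fun e => hy1 (by
      rw [← he, e]; rfl)) (hv h' h'') (by
      refine (dvd_orderOf_of_ne_one (k := 1) ?_ hy1).trans ?_
      · rwa [pow_one]
      · rw [← h'']; exact orderOf_map_dvd (QuotientGroup.mk' N) h')
  obtain ⟨i, hi⟩ := hord h rfl
  obtain ⟨i', hi'⟩ := hord (h * n) (by
    rw [QuotientGroup.mk_mul, (QuotientGroup.eq_one_iff n).mpr hn, mul_one])
  refine eq_one_of_pow_prime_pow hN hn (j := i + i') ?_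
  have : (h * n) ^ p ^ (i + i') = 1 := by rw [pow_add, mul_comm, pow_mul, hi', one_pow]
  rwa [(show Commute h n from hc).mul_pow,
    show h ^ p ^ (i + i') = 1 by rw [pow_add, pow_mul, hi, one_pow], one_mul] at this

theorem no_good_pair [Finite G] [Finite H] [IsMulCommutative N] {f : G →* H}
    (hf : Function.Surjective f) (hyp : OneVanOrder p G) (hN : (Nat.card N).Coprime p)
    (hN1 : N ≠ ⊥) {y z : H ⧸ N} (hyz : y * z = z * y) (hz : Good N p z)
    (hy : ∀ i : ℕ, Good N p (y * z ^ i)) : False := by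
  obtain ⟨s, rfl⟩ := QuotientGroup.mk_surjective y
  obtain ⟨t, rfl⟩ := QuotientGroup.mk_surjective z
  let : CommGroup N := { (inferInstance : Group N) with mul_comm := mul_comm' }
  have hNtriv : ∀ u : H, u ∈ N → (MulAut.conjNormal u : MulAut N) = 1 := by
    intro u hu
    ext n
    rw [MulAut.conjNormal_apply, MulAut.one_apply,
      show u * (n : H) = n * u from setLike_mul_comm hu n.2, mul_inv_cancel_right]
  have hquot : ∀ u v : H, (u : H ⧸ N) = v →
      (MulAut.conjNormal u : MulAut N) = MulAut.conjNormal v := by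
    intro u v e
    have := hNtriv (u⁻¹ * v) (QuotientGroup.eq.mp e)
    rw [map_mul, map_inv, inv_mul_eq_one] at this
    exact this
  have hfix : ∀ u : H, Good N p (u : H ⧸ N) → ∀ n : N,
      (MulAut.conjNormal u : MulAut N) n = n → n = 1 := by
    intro u hu n e
    refine Subtype.ext (fpf_of_good N hf hyp hN hu n.2 ?_)
    have := congrArg (fun m : N => (m : H) * u) e
    simpa [MulAut.conjNormal_apply] using this
  have hpow : ∀ u : H, (u : H ⧸ N) ^ p = 1 → (MulAut.conjNormal u : MulAut N) ^ p = 1 := by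
    intro u hu
    rw [← map_pow, hNtriv]
    rwa [← QuotientGroup.eq_one_iff, QuotientGroup.mk_pow]
  have hs : (s : H ⧸ N) ^ p = 1 := by simpa using (hy 0).2.1
  have h := pow_eq_one_of_fpf_pair hp.out (MulAut.conjNormal s : MulAut N) (MulAut.conjNormal t)
    (by
      show _ * _ = _ * _
      rw [← map_mul, ← map_mul]
      exact hquot _ _ (by simpa using hyz))
    (hpow s hs) (hpow t hz.2.1) (hfix t hz)
    (fun i n e => hfix (s * t ^ i) (by simpa using hy i) n (by rwa [map_mul, map_pow]))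
  apply hN1
  rw [Subgroup.eq_bot_iff_forall]
  intro n hn
  exact eq_one_of_pow_prime_pow hN hn (j := 1)
    (by simpa using congrArg (Subtype.val) (h ⟨n, hn⟩))

theorem centralizer_inf_pCore_le [Finite H] [IsMulCommutative N] (hO : pCore p H = ⊥)
    (hN : (Nat.card N).Coprime p) :
    centralizer (N : Set H) ⊓ (pCore p (H ⧸ N)).comap (QuotientGroup.mk' N) ≤ N := by
  set K := centralizer (N : Set H) ⊓ (pCore p (H ⧸ N)).comap (QuotientGroup.mk' N) with hK
  have hNK : N ≤ K := le_inf (Subgroup.le_centralizer N) (QuotientGroup.le_comap_mk' _ _)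
  let NK : Subgroup K := N.subgroupOf K
  let P : Sylow p K := default
  obtain ⟨m, hm⟩ : ∃ m, NK.index = p ^ m := by
    have h1 : IsPGroup p (K.map (QuotientGroup.mk' N)) :=
      PSolvable.pCore_isPGroup.to_le (Subgroup.map_le_iff_le_comap.mpr inf_le_right)
    obtain ⟨m, hm⟩ := IsPGroup.iff_card.mp h1
    refine ⟨m, ?_⟩
    have h2 := Subgroup.relIndex_ker (QuotientGroup.mk' N) (K := K)
    rw [QuotientGroup.ker_mk'] at h2
    exact h2.trans hm
  have htop : (P : Subgroup K) ⊔ NK = ⊤ := by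
    rw [← Subgroup.index_eq_one]
    refine Nat.eq_one_of_dvd_coprimes
      (((hp.out.coprime_iff_not_dvd.mpr P.not_dvd_index).symm).pow_right m)
      (Subgroup.index_dvd_of_le le_sup_left) ?_
    rw [← hm]
    exact Subgroup.index_dvd_of_le (le_sup_right : NK ≤ _)
  have hPn : (P : Subgroup K).Normal := by
    rw [← Subgroup.normalizer_eq_top_iff, eq_top_iff, ← htop]
    refine sup_le Subgroup.le_normalizer ?_
    intro x hx
    rw [Subgroup.mem_normalizer_iff]
    intro y
    have : x * y * x⁻¹ = y := by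
      apply Subtype.ext
      have := Subgroup.mem_centralizer_iff.mp (Subgroup.mem_inf.mp y.2).1 (x : H)
        (Subgroup.mem_subgroupOf.mp hx)
      simp [this]
    rw [this]
  have : (P : Subgroup K).Characteristic := P.characteristic_of_normal hPn
  have : ((P : Subgroup K).map K.subtype).Normal := inferInstance
  have hP : (P : Subgroup K) = ⊥ := by
    have := (PSolvable.le_pCore (p := p) (P.2.map K.subtype)).trans hO.le
    rw [le_bot_iff, Subgroup.map_eq_bot_iff_of_injective _ K.subtype_injective] at this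
    exact this
  rw [hP, bot_sup_eq] at htop
  intro x hx
  exact Subgroup.mem_subgroupOf.mp (htop ▸ Subgroup.mem_top (⟨x, hx⟩ : K) : (⟨x, hx⟩ : K) ∈ NK)

/-- The action of `H` on the linear characters of `N`. -/
def dualConj : H →* MulAut (N →* ℂˣ) where
  toFun h :=
    { toFun := fun m => m.comp (MulAut.conjNormal h⁻¹ : MulAut N).toMonoidHom
      invFun := fun m => m.comp (MulAut.conjNormal h : MulAut N).toMonoidHom
      left_inv := fun m => MonoidHom.ext fun n => congrArg m (Subtype.ext (by simp [mul_assoc]))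
      right_inv := fun m => MonoidHom.ext fun n => congrArg m (Subtype.ext (by simp [mul_assoc]))
      map_mul' := fun _ _ => MonoidHom.ext fun _ => rfl }
  map_one' := MulEquiv.ext fun m => MonoidHom.ext fun n =>
    congrArg m (Subtype.ext (by simp))
  map_mul' a b := MulEquiv.ext fun m => MonoidHom.ext fun n =>
    congrArg m (Subtype.ext (by simp [mul_assoc]))

theorem dualConj_apply (h : H) (m : N →* ℂˣ) (n : N) :
    (dualConj N h m) n = m ((MulAut.conjNormal h⁻¹ : MulAut N) n) := rfl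

theorem conjFun_linIrr [Finite H] (h : H) (m : N →* ℂˣ) :
    Clifford.conjFun h⁻¹ ((Chars.linIrr m : IrrCharacter N) : N → ℂ) =
      ((Chars.linIrr (dualConj N h m) : IrrCharacter N) : N → ℂ) := by
  funext n
  show ((m _ : ℂˣ) : ℂ) = ((m _ : ℂˣ) : ℂ)
  congr 2

/-- The main step. -/
theorem card_sylow_dvd_step [Finite G] [Finite H] [IsMulCommutative N] {f : G →* H}
    (hf : Function.Surjective f) (hyp : OneVanOrder p G) (hO : pCore p H = ⊥)
    (hN : (Nat.card N).Coprime p) (hN1 : N ≠ ⊥) (hQ : pCore p (H ⧸ N) ≠ ⊥) (P : Sylow p H) :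
    Nat.card (P : Subgroup H) ∣ p := by
  set Q := pCore p (H ⧸ N) with hQdef
  set Zc := Q ⊓ centralizer (Q : Set (H ⧸ N)) with hZc
  have hQp : IsPGroup p Q := PSolvable.pCore_isPGroup
  have hZcn : Zc.Normal := inferInstance
  have hZc1 : Zc ≠ ⊥ := by
    have : Nontrivial Q := (Subgroup.nontrivial_iff_ne_bot Q).mpr hQ
    have := hQp.center_nontrivial
    obtain ⟨⟨c, hc⟩, hc1⟩ := exists_ne (1 : center Q)
    intro hb
    have : (c : H ⧸ N) ∈ Zc := ⟨c.2, Subgroup.mem_centralizer_iff.mpr fun x hx =>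
      congrArg Subtype.val (Subgroup.mem_center_iff.mp hc ⟨x, hx⟩)⟩
    rw [hb, Subgroup.mem_bot] at this
    exact hc1 (Subtype.ext (Subtype.ext this))
  -- the action of `Zc` on the linear characters
  have hker : N ≤ (dualConj N).ker := by
    intro u hu
    refine MulEquiv.ext fun m => MonoidHom.ext fun n => congrArg m (Subtype.ext ?_)
    show (((MulAut.conjNormal u⁻¹ : MulAut N) n : N) : H) = n
    rw [MulAut.conjNormal_apply,
      show u⁻¹ * (n : H) = n * u⁻¹ from setLike_mul_comm (inv_mem hu) n.2, mul_inv_cancel_right]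
  set ψ : H ⧸ N →* MulAut (N →* ℂˣ) := QuotientGroup.lift N (dualConj N) hker with hψ
  have hfaith : ∀ x ∈ Zc, ψ x = 1 → x = 1 := by
    intro x hx he
    obtain ⟨h, rfl⟩ := QuotientGroup.mk_surjective x
    rw [hψ, QuotientGroup.lift_mk] at he
    rw [QuotientGroup.eq_one_iff]
    refine centralizer_inf_pCore_le N hO hN ⟨Subgroup.mem_centralizer_iff.mpr fun n hn => ?_, hx.1⟩
    let : CommGroup N := { (inferInstance : Group N) with mul_comm := mul_comm' }
    set u : N := ((MulAut.conjNormal h⁻¹ : MulAut N) ⟨n, hn⟩) * (⟨n, hn⟩ : N)⁻¹ with hu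
    by_contra hne
    have hu1 : u ≠ 1 := by
      intro e
      rw [hu, mul_inv_eq_one] at e
      have e' := congrArg Subtype.val e
      rw [MulAut.conjNormal_apply, inv_inv] at e'
      apply hne
      calc n * h = h * (h⁻¹ * n * h) := by group
        _ = h * n := by rw [e']
    have : HasEnoughRootsOfUnity ℂ (Monoid.exponent N) := inferInstance
    obtain ⟨m, hm⟩ := CommGroup.exists_apply_ne_one_of_hasEnoughRootsOfUnity N ℂ hu1
    apply hm
    have e1 := dualConj_apply N h m (⟨n, hn⟩ : N)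
    rw [he, MulAut.one_apply] at e1
    rw [hu, map_mul m, ← e1, map_inv m, mul_inv_cancel]
  let : CommGroup N := { (inferInstance : Group N) with mul_comm := mul_comm' }
  have : Finite (N →* ℂˣ) := Finite.of_equiv _ (Chars.linearEquivHom (G := N)).symm
  obtain ⟨μ, hμ⟩ := Chars.exists_regular_point (ψ.comp Zc.subtype)
    (fun (a b : Zc) => by
      rw [← map_mul, ← map_mul]
      exact congrArg _ (Subtype.ext (Subgroup.mem_centralizer_iff.mp (Subgroup.mem_inf.mp b.2).2
        (a : H ⧸ N) (Subgroup.mem_inf.mp a.2).1)))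
    (by
      rw [CommGroup.card_monoidHom_of_hasEnoughRootsOfUnity N ℂ]
      obtain ⟨k, hk⟩ := IsPGroup.iff_card.mp (hQp.to_le (inf_le_left : Zc ≤ Q))
      rw [hk]
      exact hN.symm.pow_left k)
  have hvan : ∀ (h : H) (k : ℕ), ((h : H ⧸ N)) ^ k ∈ Zc → ((h : H ⧸ N)) ^ k ≠ 1 → Van h := by
    intro h k hk hk1
    refine van_of_moves N (Chars.linIrr μ) h fun g e => ?_
    have hpw : ∀ m : ℕ, Clifford.conjFun (h ^ m)
        (Clifford.conjFun g ((Chars.linIrr μ : IrrCharacter N) : N → ℂ)) =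
          Clifford.conjFun g ((Chars.linIrr μ : IrrCharacter N) : N → ℂ) := by
      intro m
      induction m with
      | zero => rw [pow_zero, Clifford.conjFun_one]
      | succ m ih => rw [pow_succ, Clifford.conjFun_mul, ih, e]
    have e1 : Clifford.conjFun (g * h ^ k * g⁻¹) ((Chars.linIrr μ : IrrCharacter N) : N → ℂ) =
        ((Chars.linIrr μ : IrrCharacter N) : N → ℂ) := by
      rw [Clifford.conjFun_mul, Clifford.conjFun_mul, hpw, ← Clifford.conjFun_mul, mul_inv_cancel,
        Clifford.conjFun_one]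
    set v := g * h ^ k * g⁻¹ with hv
    have e2 : Clifford.conjFun v⁻¹ ((Chars.linIrr μ : IrrCharacter N) : N → ℂ) =
        ((Chars.linIrr μ : IrrCharacter N) : N → ℂ) := by
      conv_lhs => rw [← e1, ← Clifford.conjFun_mul, mul_inv_cancel, Clifford.conjFun_one]
    rw [conjFun_linIrr] at e2
    have e3 : dualConj N v μ = μ := Chars.linIrr_injective (Subtype.ext e2)
    have hvm : (v : H ⧸ N) = (g : H ⧸ N) * (h : H ⧸ N) ^ k * (g : H ⧸ N)⁻¹ := by
      simp [hv]
    have hvZ : (v : H ⧸ N) ∈ Zc := hvm ▸ hZcn.conj_mem _ hk _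
    have e4 := hμ ⟨(v : H ⧸ N), hvZ⟩ e3
    have e5 := hfaith _ hvZ e4
    rw [hvm, conj_eq_one_iff] at e5
    exact hk1 e5
  have hgood : ∀ x ∈ Zc, x ≠ 1 → Good N p x := by
    intro x hx hx1
    have hv : ∀ h : H, (h : H ⧸ N) = x → Van h := fun h e =>
      hvan h 1 (by rwa [pow_one, e]) (by rwa [pow_one, e])
    refine ⟨hx1, ?_, hv⟩
    by_contra hxp
    obtain ⟨k, hk⟩ := hQp ⟨x, hx.1⟩
    obtain ⟨h, j, he, hj⟩ := exists_pLift (p := p) (QuotientGroup.mk' N)
      (QuotientGroup.mk'_surjective N) (h := x) (k := k) (congrArg Subtype.val hk)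
    have he' : (h : H ⧸ N) = x := he
    refine not_van_pow hf hyp (hv h he) hj (fun e => hxp ?_)
      (hvan (h ^ p) 1 ?_ ?_)
    · rw [← he', ← QuotientGroup.mk_pow, e, QuotientGroup.mk_one]
    · rw [pow_one, QuotientGroup.mk_pow, he']; exact pow_mem hx p
    · rw [pow_one, QuotientGroup.mk_pow, he']; exact hxp
  obtain ⟨z, hz, hz1⟩ := (Subgroup.bot_or_exists_ne_one Zc).resolve_left hZc1
  have hzgood := hgood z hz hz1
  have hordz : orderOf z = p := orderOf_eq_prime hzgood.2.1 hz1
  have hZeq : Zc = zpowers z := by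
    refine le_antisymm (fun y hy => ?_) (zpowers_le.mpr hz)
    by_contra hyn
    refine no_good_pair N hf hyp hN hN1 (y := y) (z := z)
      (Subgroup.mem_centralizer_iff.mp hz.2 y hy.1) hzgood fun i => ?_
    refine hgood _ (mul_mem hy (pow_mem hz i)) fun e => hyn ?_
    rw [eq_inv_of_mul_eq_one_left e]
    exact inv_mem (pow_mem (mem_zpowers z) i)
  have hzn : (zpowers z).Normal := hZeq ▸ hZcn
  have hQeq : Q = zpowers z := by
    refine le_antisymm ?_ (zpowers_le.mpr hz.1)
    by_contra hle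
    have hne : center Q ≠ ⊤ := by
      intro e
      refine hle (fun x hx => hZeq ▸ (show x ∈ Zc from ⟨hx, Subgroup.mem_centralizer_iff.mpr fun w hw => ?_⟩))
      exact congrArg Subtype.val (Subgroup.mem_center_iff.mp ((SetLike.ext_iff.mp e ⟨x, hx⟩).mpr (Subgroup.mem_top _)) ⟨w, hw⟩)
    have : Nontrivial (Q ⧸ center Q) := by
      by_contra hsub
      rw [not_nontrivial_iff_subsingleton] at hsub
      exact hne ((Subgroup.eq_top_iff' _).mpr fun x =>
        (QuotientGroup.eq_one_iff x).mp (Subsingleton.elim _ _))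
    have := (hQp.to_quotient (center Q)).center_nontrivial
    obtain ⟨⟨c, hc⟩, hc1⟩ := exists_ne (1 : center (Q ⧸ center Q))
    obtain ⟨⟨y, hy⟩, rfl⟩ := QuotientGroup.mk_surjective c
    have hyZ : y ∉ Zc := by
      intro hyZ
      refine hc1 (Subtype.ext ((QuotientGroup.eq_one_iff _).mpr
        (Subgroup.mem_center_iff.mpr fun w => Subtype.ext ?_)))
      exact Subgroup.mem_centralizer_iff.mp hyZ.2 w w.2
    have hcomm : ∀ q ∈ Q, y⁻¹ * (q * y * q⁻¹) ∈ Zc := by
      intro q hq
      have e := Subgroup.mem_center_iff.mp hc ((⟨q, hq⟩ : Q) : Q ⧸ center Q)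
      have h2 : ((⟨y, hy⟩ : Q)⁻¹ * (⟨q, hq⟩ * ⟨y, hy⟩ * (⟨q, hq⟩ : Q)⁻¹)) ∈ center Q := by
        rw [← QuotientGroup.eq_one_iff]
        simp only [QuotientGroup.mk_mul, QuotientGroup.mk_inv]
        rw [e, mul_inv_cancel_right, inv_mul_cancel]
      refine ⟨?_, Subgroup.mem_centralizer_iff.mpr fun w hw => ?_⟩
      · exact Q.mul_mem (Q.inv_mem hy) (Q.mul_mem (Q.mul_mem hq hy) (Q.inv_mem hq))
      · exact congrArg Subtype.val (Subgroup.mem_center_iff.mp h2 ⟨w, hw⟩)
    have key : ∀ y' ∈ Q, y' ∉ Zc → (∀ q ∈ Q, y'⁻¹ * (q * y' * q⁻¹) ∈ Zc) → Good N p y' := by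
      intro y' hy' hyZ' hcm
      obtain ⟨q, hq, hq1⟩ : ∃ q ∈ Q, q * y' ≠ y' * q := by
        by_contra! h0
        exact hyZ' ⟨hy', Subgroup.mem_centralizer_iff.mpr h0⟩
      set z' := y'⁻¹ * (q * y' * q⁻¹) with hz'
      have hz'Z : z' ∈ Zc := hcm q hq
      have hz'1 : z' ≠ 1 := by
        intro e
        rw [hz', inv_mul_eq_one, eq_mul_inv_iff_mul_eq] at e
        exact hq1 e.symm
      have hqz : q * z' = z' * q := Subgroup.mem_centralizer_iff.mp hz'Z.2 q hq
      have hn : (zpowers z').Normal := by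
        have : zpowers z' = zpowers z := by
          refine Subgroup.eq_of_le_of_card_ge (zpowers_le.mpr (hZeq ▸ hz'Z)) ?_
          rw [Nat.card_zpowers, Nat.card_zpowers, hordz,
            orderOf_eq_prime (hgood z' hz'Z hz'1).2.1 hz'1]
        rwa [this]
      have hyB : Van y' := van_of_commutator hn hz'1 hqz (by rw [hz', mul_inv_cancel_left])
      have hv : ∀ h : H, (h : H ⧸ N) = y' → Van h := fun h e =>
        van_of_map (QuotientGroup.mk'_surjective N) (show Van (QuotientGroup.mk' N h) from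
          (show QuotientGroup.mk' N h = y' from e).symm ▸ hyB)
      refine ⟨fun e => hyZ' (e ▸ one_mem _), ?_, hv⟩
      by_contra hyp1
      have hypZ : y' ^ p ∈ Zc := by
        refine ⟨pow_mem hy' p, Subgroup.mem_centralizer_iff.mpr fun w hw => ?_⟩
        set c := y'⁻¹ * (w * y' * w⁻¹) with hc'
        have hcZ : c ∈ Zc := hcm w hw
        have hwy : w * y' * w⁻¹ = y' * c := by rw [hc', mul_inv_cancel_left]
        have hcy : Commute y' c := Subgroup.mem_centralizer_iff.mp hcZ.2 y' hy'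
        have hcp : c ^ p = 1 := by
          rcases eq_or_ne c 1 with h0 | h0
          · rw [h0, one_pow]
          · exact (hgood c hcZ h0).2.1
        have h3 : (w * y' * w⁻¹) ^ p = w * y' ^ p * w⁻¹ := conj_pow
        rw [hwy, hcy.mul_pow, hcp, mul_one] at h3
        exact (mul_inv_eq_iff_eq_mul.mp h3.symm)
      obtain ⟨k, hk⟩ := hQp ⟨y', hy'⟩
      obtain ⟨h, j, he, hj⟩ := exists_pLift (p := p) (QuotientGroup.mk' N)
        (QuotientGroup.mk'_surjective N) (h := y') (k := k) (congrArg Subtype.val hk)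
      have he' : (h : H ⧸ N) = y' := he
      refine not_van_pow hf hyp (hv h he) hj (fun e => hyp1 ?_) (hvan (h ^ p) 1 ?_ ?_)
      · rw [← he', ← QuotientGroup.mk_pow, e, QuotientGroup.mk_one]
      · rw [pow_one, QuotientGroup.mk_pow, he']; exact hypZ
      · rw [pow_one, QuotientGroup.mk_pow, he']; exact hyp1
    refine no_good_pair N hf hyp hN hN1 (y := y) (z := z)
      (Subgroup.mem_centralizer_iff.mp hz.2 y hy) hzgood fun i => ?_
    refine key _ (mul_mem hy (pow_mem hz.1 i)) (fun hmem => hyZ ?_) fun q hq => ?_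
    · simpa using mul_mem hmem (inv_mem (pow_mem hz i))
    · have hzi : q * z ^ i = z ^ i * q :=
        Subgroup.mem_centralizer_iff.mp (pow_mem hz.2 i) q hq
      have e : (y * z ^ i)⁻¹ * (q * (y * z ^ i) * q⁻¹) =
          (z ^ i)⁻¹ * (y⁻¹ * (q * y * q⁻¹)) * z ^ i := by
        rw [show q * (y * z ^ i) * q⁻¹ = q * y * q⁻¹ * (q * z ^ i * q⁻¹) by group, hzi,
          mul_inv_cancel_right]
        group
      rw [e]
      exact mul_mem (mul_mem (inv_mem (pow_mem hz i)) (hcomm q hq)) (pow_mem hz i)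
  -- the centralizer of `z` is a p-group
  set C := centralizer ((zpowers z : Subgroup (H ⧸ N)) : Set (H ⧸ N)) with hC
  have hCn : C.Normal := inferInstance
  have hCp : IsPGroup p C := by
    rintro ⟨c, hc⟩
    have hcz : Commute z c := Subgroup.mem_centralizer_iff.mp hc z (mem_zpowers z)
    set a := (orderOf c).factorization p with ha
    refine ⟨a, Subtype.ext ?_⟩
    show c ^ p ^ a = 1
    set c' := c ^ p ^ a with hc'
    have hm : (orderOf c').Coprime p := by
      rw [hc', orderOf_pow_of_dvd (pow_ne_zero _ hp.out.ne_zero) (Nat.ordProj_dvd _ _)]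
      exact (Nat.coprime_ordCompl hp.out (orderOf_pos c).ne').symm
    set m := orderOf c' with hm'
    have hzm : z ^ m ≠ 1 := fun e => by
      have := orderOf_dvd_of_pow_eq_one e
      rw [hordz] at this
      exact (hp.out.coprime_iff_not_dvd.mp hm.symm) this
    obtain ⟨h, he⟩ := QuotientGroup.mk_surjective (z * c')
    have hpow : (h : H ⧸ N) ^ m = z ^ m := by
      rw [he, (hcz.pow_right _).mul_pow, hm', pow_orderOf_eq_one, mul_one]
    have hd : p ∣ orderOf h := by
      have h1 : orderOf (z ^ m) ∣ orderOf h := by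
        rw [← hpow]
        exact (orderOf_pow_dvd m).trans (orderOf_map_dvd (QuotientGroup.mk' N) h)
      exact (dvd_orderOf_of_ne_one (k := 1)
        (by rw [pow_one, ← pow_mul, mul_comm, pow_mul, hzgood.2.1, one_pow]) hzm).trans h1
    obtain ⟨h0, j, he0, hj0⟩ := exists_pLift (p := p) (QuotientGroup.mk' N)
      (QuotientGroup.mk'_surjective N) (h := z) (k := 1) (by rw [pow_one]; exact hzgood.2.1)
    obtain ⟨i, hi⟩ := isPow_of_van hf hyp (hzgood.2.2 h0 he0) hj0
      (fun e => hz1 (by rw [← he0, e, map_one]))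
      (hvan h m (hpow ▸ pow_mem hz m) (hpow ▸ hzm)) hd
    have h2 : (z * c') ^ p ^ (i + 1) = 1 := by
      rw [← he, pow_succ, pow_mul, ← QuotientGroup.mk_pow, hi, QuotientGroup.mk_one, one_pow]
    rw [(hcz.pow_right _).mul_pow, show z ^ p ^ (i + 1) = 1 by
      rw [pow_succ', pow_mul, hzgood.2.1, one_pow], one_mul] at h2
    refine orderOf_eq_one_iff.mp (Nat.eq_one_of_dvd_coprimes (hm.pow_right (i + 1)) dvd_rfl ?_)
    exact orderOf_dvd_of_pow_eq_one h2
  have hCle : C ≤ zpowers z := (PSolvable.le_pCore hCp).trans hQeq.le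
  have himg : (P : Subgroup H).map (QuotientGroup.mk' N) ≤ zpowers z := by
    rintro w ⟨x, hx, rfl⟩
    set w := QuotientGroup.mk' N x with hw
    refine hCle (Subgroup.mem_centralizer_iff.mpr fun y hy => ?_)
    obtain ⟨k, hk⟩ := P.2 ⟨x, hx⟩
    have hwk : w ^ p ^ k = 1 := by
      rw [hw, ← map_pow, show x ^ p ^ k = 1 from congrArg Subtype.val hk, map_one]
    obtain ⟨r, hr⟩ := mem_powers_iff_mem_zpowers.mpr (hzn.conj_mem z (mem_zpowers z) w)
    have hr' : z ^ r = w * z * w⁻¹ := hr
    have hit : ∀ j : ℕ, w ^ j * z * (w ^ j)⁻¹ = z ^ r ^ j := by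
      intro j
      induction j with
      | zero => simp
      | succ j ih =>
        rw [pow_succ' w, mul_inv_rev,
          show w * w ^ j * z * ((w ^ j)⁻¹ * w⁻¹) = w * (w ^ j * z * (w ^ j)⁻¹) * w⁻¹ by group,
          ih, ← conj_pow, ← hr', ← pow_mul, ← pow_succ']
    have h1 := hit (p ^ k)
    rw [hwk, one_mul, inv_one, mul_one] at h1
    have h2 : (r : ZMod p) = 1 := by
      have h3 : z ^ 1 = z ^ r ^ p ^ k := by rw [pow_one]; exact h1
      rw [pow_eq_pow_iff_modEq, hordz, ← ZMod.natCast_eq_natCast_iff] at h3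
      rw [Nat.cast_one, Nat.cast_pow, ZMod.pow_card_pow] at h3
      exact h3.symm
    have hfix : w * z = z * w := by
      have h4 : z ^ r = z ^ 1 := by
        rw [pow_eq_pow_iff_modEq, hordz, ← ZMod.natCast_eq_natCast_iff, h2, Nat.cast_one]
      rw [pow_one, hr', mul_inv_eq_iff_eq_mul] at h4
      exact h4
    obtain ⟨s, rfl⟩ := Subgroup.mem_zpowers_iff.mp hy
    exact ((show Commute w z from hfix).zpow_right s).symm.eq
  have hinj : Function.Injective ((QuotientGroup.mk' N).subgroupMap (P : Subgroup H)) := by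
    rw [← MonoidHom.ker_eq_bot_iff, Subgroup.eq_bot_iff_forall]
    rintro ⟨x, hx⟩ hk
    obtain ⟨j, hj⟩ := P.2 ⟨x, hx⟩
    exact Subtype.ext (eq_one_of_pow_prime_pow hN ((QuotientGroup.eq_one_iff x).mp
      (congrArg Subtype.val hk)) (congrArg Subtype.val hj))
  rw [Nat.card_congr (MulEquiv.ofBijective _ ⟨hinj, MonoidHom.subgroupMap_surjective _ _⟩).toEquiv]
  refine (Subgroup.card_dvd_of_le himg).trans ?_
  rw [Nat.card_zpowers, hordz]

omit [Group H] in
theorem card_sylow_dvd_aux [Finite G] (hyp : OneVanOrder p G) (m : ℕ) :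
    ∀ (H : Type u) [Group H] [Finite H] [Group.IsSolvable H] (f : G →* H), Function.Surjective f →
      Nat.card H = m → pCore p H = ⊥ → ∀ P : Sylow p H, Nat.card (P : Subgroup H) ∣ p := by
  induction m using Nat.strong_induction_on with
  | _ m ih =>
  intro H _ _ _ f hf hm hO P
  by_cases htriv : Nat.card H = 1
  · have := Subgroup.card_subgroup_dvd_card (P : Subgroup H)
    rw [htriv, Nat.dvd_one] at this
    rw [this]
    exact one_dvd _
  have : Nontrivial H := by
    by_contra hn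
    rw [not_nontrivial_iff_subsingleton] at hn
    exact htriv (Nat.card_eq_one_iff_unique.mpr ⟨hn, ⟨1⟩⟩)
  obtain ⟨N, hNn, hN1, -, hmin⟩ :=
    MinimalNormal.exists_minimal_normal_le (G := H) (M := ⊤) inferInstance top_ne_bot
  have : N.Normal := hNn
  obtain ⟨hc, q, hq, hexp⟩ := MinimalNormal.elementaryAbelian N hN1 hmin
  have := Fact.mk hq
  have hNq : IsPGroup q N := fun x => ⟨1, Subtype.ext (by simpa using hexp x x.2)⟩
  have hqp : q ≠ p := by
    rintro rfl
    exact hN1 (le_bot_iff.mp (hO ▸ PSolvable.le_pCore hNq))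
  have hN : (Nat.card N).Coprime p := by
    obtain ⟨k, hk⟩ := IsPGroup.iff_card.mp hNq
    rw [hk]
    exact ((Nat.coprime_primes hq hp.out).mpr hqp).pow_left k
  by_cases hQ : pCore p (H ⧸ N) = ⊥
  · have hlt : Nat.card (H ⧸ N) < m := by
      rw [← hm, Subgroup.card_eq_card_quotient_mul_card_subgroup N]
      exact lt_mul_of_one_lt_right Nat.card_pos
        (Finite.one_lt_card_iff_nontrivial.mpr ((Subgroup.nontrivial_iff_ne_bot N).mpr hN1))
    let P' : Sylow p (H ⧸ N) := P.mapSurjective (QuotientGroup.mk'_surjective N)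
    have h1 := ih _ hlt (H ⧸ N) ((QuotientGroup.mk' N).comp f)
      ((QuotientGroup.mk'_surjective N).comp hf) rfl hQ P'
    have hinj : Function.Injective ((QuotientGroup.mk' N).subgroupMap (P : Subgroup H)) := by
      rw [← MonoidHom.ker_eq_bot_iff, Subgroup.eq_bot_iff_forall]
      rintro ⟨x, hx⟩ hk
      obtain ⟨j, hj⟩ := P.2 ⟨x, hx⟩
      exact Subtype.ext (eq_one_of_pow_prime_pow hN ((QuotientGroup.eq_one_iff x).mp
        (congrArg Subtype.val hk)) (congrArg Subtype.val hj))
    rwa [Nat.card_congr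
      (MulEquiv.ofBijective _ ⟨hinj, MonoidHom.subgroupMap_surjective _ _⟩).toEquiv]
  · exact card_sylow_dvd_step N hf hyp hO hN hN1 hQ P

/-- In a solvable group whose vanishing elements of order divisible by `p` have a single order,
a Sylow `p`-subgroup has image of order at most `p` modulo the `p`-core. -/
theorem card_map_sylow_dvd [Finite G] [Group.IsSolvable G] (hyp : OneVanOrder p G)
    (P : Sylow p G) :
    Nat.card ((P : Subgroup G).map (QuotientGroup.mk' (pCore p G))) ∣ p :=
  card_sylow_dvd_aux hyp _ (G ⧸ pCore p G) (QuotientGroup.mk' _) (QuotientGroup.mk'_surjective _)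
    rfl PSolvable.pCore_quotient_eq_bot (P.mapSurjective (QuotientGroup.mk'_surjective _))

end Cfsg.Agent.Lib.VanishingP
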